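import Mathlib
import Cfsg.Agent.Lib.RGD.BorelTits
import Cfsg.Agent.Lib.RGD.Simple
import Cfsg.Agent.Lib.St.Chev
import Cfsg.Agent.Lib.BN.Parabolic

/-! Iterated cores of a maximal parabolic subgroup and its conjugate under the omitted reflection. -/

set_option autoImplicit false

namespace CfsgLib.RGD

open Subgroup

theorem mem_core {G : Type*} [Group G] {Y M : Subgroup G} {x : G} :
    x ∈ (Y.subgroupOf M).normalCore.map M.subtype ↔ x ∈ M ∧ ∀ m ∈ M, m * x * m⁻¹ ∈ Y :=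
  ⟨by rintro ⟨y, hy, rfl⟩; exact ⟨y.2, fun m hm => hy ⟨m, hm⟩⟩, fun ⟨h, h'⟩ => ⟨⟨x, h⟩, fun m => h' m m.2, rfl⟩⟩

theorem mem_cj {G : Type*} [Group G] {Y : Subgroup G} {g x : G} :
    x ∈ Y.map (MulAut.conj g).toMonoidHom ↔ g⁻¹ * x * g ∈ Y :=
  ⟨by rintro ⟨y, hy, rfl⟩; simpa [mul_assoc] using hy, fun h => ⟨_, h, by simp [mul_assoc]⟩⟩

/-- the iterated cores -/
def itCore {G : Type*} [Group G] (M : Subgroup G) (g : G) : ℕ → Subgroup G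
  | 0 => M
  | k + 1 => ((itCore M g k ⊓ (itCore M g k).map (MulAut.conj g).toMonoidHom).subgroupOf M).normalCore.map M.subtype

variable {ι κ : Type} [Fintype κ] [DecidableEq κ] {Φ : RootSys ι κ} {i : κ}

/-- the roots of level at least `k` -/
def lv (Φ : RootSys ι κ) (i : κ) (k : ℤ) : Set ι := {r | k ≤ Φ.rt r i}

theorem lv_pos {k : ℤ} (hk : 1 ≤ k) : ∀ r ∈ lv Φ i k, Φ.Pos r := fun _ hr => Φ.pos_of_coeff_pos (hk.trans hr)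

theorem lv_sum {k : ℤ} (hk : 1 ≤ k) {r s t : ι} (hr : 0 ≤ Φ.rt r i) (hs : s ∈ lv Φ i k) (h : Φ.IsSum r s t) :
    t ∈ lv Φ i k := by
  obtain ⟨a, b, ha, hb, h⟩ := h
  have h1 : k ≤ Φ.rt s i := hs
  change k ≤ _
  rw [h]
  nlinarith [Int.natCast_pos.2 ha, Int.natCast_pos.2 hb]

theorem lv_closed {k : ℤ} (hk : 1 ≤ k) : Φ.Closed (lv Φ i k) := fun r hr _ hs _ h =>
  lv_sum hk (lv_pos hk r hr i) hs h

theorem rt_W {w : Equiv.Perm ι} (hw : w ∈ Φ.WJ {j | j ≠ i}) (r : ι) : Φ.rt (w r) i = Φ.rt r i :=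
  Φ.rt_apply_of_not_mem hw r fun h => h rfl

theorem diff_closed {b : ι} (hb : Φ.rt b i = 1) : Φ.Closed (lv Φ i 1 \ {b}) := fun r hr s hs t h =>
  ⟨lv_closed le_rfl r hr.1 s hs.1 t h, fun e => by
    have := h.coeff_le (lv_pos le_rfl r hr.1) (lv_pos le_rfl s hs.1) i
    have h1 : 1 ≤ Φ.rt r i := hr.1
    have h2 : 1 ≤ Φ.rt s i := hs.1
    rw [e] at this; omega⟩

/-- the facts on the root system -/
structure ItOK (Φ : RootSys ι κ) (i : κ) : Prop where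
  h1 : ∀ r, Φ.Pos r → (∃ j, j ≠ i ∧ 0 < Φ.wt j r) ∨ r = Φ.simple i ∨ 2 ≤ Φ.rt r i ∧ 0 < Φ.wt i r
  h2 : ∀ r, r = Φ.simple i ∨ Φ.wt i r ≤ 1
  h3 : ∀ j, j ≠ i → ∃ r, Φ.rt r i = 1 ∧ Φ.wt j r = -1

theorem ItOK.desc [Finite ι] (h : ItOK Φ i) (r : ι) : ∃ w ∈ Φ.WJ {j | j ≠ i},
    Φ.Neg (w r) ∨ w r = Φ.simple i ∨ 2 ≤ Φ.rt r i ∧ 0 < Φ.wt i (w r) := by
  obtain ⟨w, hw, hm⟩ := Set.exists_min_image (Φ.WJ {j | j ≠ i} : Set (Equiv.Perm ι)) (fun w => Φ.ht (w r))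
    (Set.toFinite _) ⟨1, one_mem _⟩
  refine ⟨w, hw, (Φ.pos_or_neg _).symm.imp_right fun hp => ?_⟩
  rw [← rt_W hw]
  refine (h.h1 _ hp).resolve_left fun ⟨j, hj, h0⟩ => ?_
  have := hm _ (mul_mem (Φ.s_mem_WJ hj) hw)
  rw [Equiv.Perm.mul_apply, Φ.ht_s] at this
  omega

namespace StSys

variable {F : Type*} [Field F] {G : Type*} [Group G] {S : StSys Φ F G} [Finite ι]

theorem Nondeg.mem_UU_forall (hS : S.Nondeg) {α : Type*} [Finite α] {T : α → Set ι} {T₀ : Set ι} (h₀ : Φ.Closed T₀)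
    (p₀ : ∀ r ∈ T₀, Φ.Pos r) (h : ∀ a, Φ.Closed (T a)) (p : ∀ a, ∀ r ∈ T a, Φ.Pos r) {x : G} (hx : x ∈ S.UU T₀)
    (hx' : ∀ a, x ∈ S.UU (T a)) : x ∈ S.UU {r | r ∈ T₀ ∧ ∀ a, r ∈ T a} := by
  have key : ∀ s : Set α, s.Finite → x ∈ S.UU {r | r ∈ T₀ ∧ ∀ a ∈ s, r ∈ T a} := fun s hs => by
    induction s, hs using Set.Finite.induction_on with
    | empty => simpa using hx
    | @insert a s _ _ ih =>
      refine S.UU_mono (fun r hr => ?_) ((hS.UU_inf_UU (Ψ₁ := {r | r ∈ T₀ ∧ ∀ a ∈ s, r ∈ T a}) (fun r hr t ht k hk => ⟨h₀ r hr.1 t ht.1 k hk,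
        fun b hb => h b r (hr.2 b hb) t (ht.2 b hb) k hk⟩) (fun r hr => p₀ r hr.1) (h a) (p a)).le ⟨ih, hx' a⟩)
      exact ⟨hr.1.1, Set.forall_mem_insert.2 ⟨hr.2, hr.1.2⟩⟩
  simpa using key Set.univ (Set.toFinite _)

omit [Finite ι] in
theorem P_conj_lv {k : ℤ} (hk : 1 ≤ k) {g u : G} (hg : g ∈ S.P {j | j ≠ i}) (hu : u ∈ S.UU (lv Φ i k)) :
    g * u * g⁻¹ ∈ S.UU (lv Φ i k) := by
  rw [P_eq_H_sup_UU] at hg
  refine (mem_normalizer_iff.1 (sup_le (S.H_le_normalizer_UU _) (S.UU_le_normalizer fun r hr s hs => ?_) hg) u).1 hu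
  have h0 : 0 ≤ Φ.rt r i := hr.elim (fun h => h i) fun h => (h i fun h => h rfl).ge
  refine ⟨?_, fun _ => lv_sum hk h0 hs⟩
  rintro rfl
  have : k ≤ Φ.rt (Φ.neg r) i := hs
  rw [Φ.rt_neg] at this; omega

theorem Nondeg.shrink (hS : S.Nondeg) {J : Set κ} {K : Subgroup G} (hK : ∀ g ∈ S.P J, ∀ x ∈ K, g * x * g⁻¹ ∈ K)
    {T T' : Set ι} (hT : Φ.Closed T) (hp : ∀ r ∈ T, Φ.Pos r) (h : K ≤ S.UU T)
    (h' : ∀ r, (∀ w ∈ Φ.WJ J, w r ∈ T) → r ∈ T') : K ≤ S.UU T' := fun x hx => by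
  refine S.UU_mono (fun r hr => h' r fun w hw => (hr.2 ⟨w, hw⟩).2) (hS.mem_UU_forall (α := Φ.WJ J)
    (T := fun w => {r | r ∈ T ∧ w.1 r ∈ T}) hT hp (fun w r hr s hs k hk => ⟨hT r hr.1 s hs.1 k hk,
      hT _ hr.2 _ hs.2 _ (hk.apply (Φ.WJ_le_W J w.2))⟩) (fun _ r hr => hp r hr.1) (h hx) fun w => ?_)
  obtain ⟨n, hn, ha⟩ := S.exists_acts_WJ (inv_mem w.2)
  have e : n * (n⁻¹ * x * n⁻¹⁻¹) * n⁻¹ = x := by group
  have := hS.mem_UU_inter hT hp hT hp (Φ.WJ_le_W J (inv_mem w.2)) ha (h (hK _ (inv_mem (NJ_le_P J hn)) x hx))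
    (e.symm ▸ h hx)
  rwa [e] at this

omit [Finite ι] in
theorem acts_n_inv : S.Acts (S.n (Φ.simple i) 1)⁻¹ (Φ.s i) :=
  Φ.s_inv i ▸ (S.acts_n_simple i one_ne_zero).inv (Φ.s_mem_W i)

omit [Finite ι] in
theorem n_conj_mem_P {J : Set κ} {y : G} (hy : y ∈ S.UU (lv Φ i 1 \ {Φ.simple i})) :
    (S.n (Φ.simple i) 1)⁻¹ * y * (S.n (Φ.simple i) 1)⁻¹⁻¹ ∈ S.P J :=
  B_le_P J (S.U_le_B (acts_n_inv.conj_mem_UU (fun s hs => Φ.pos_s (lv_pos le_rfl s hs.1) hs.2) hy))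

theorem Nondeg.x_neg_notMem (hS : S.Nondeg) {t : F} (h : S.x (Φ.neg (Φ.simple i)) t ∈ S.P {j | j ≠ i}) : t = 0 :=
  hS.eq_zero_of_x_eq_one (hS.eq_one_of_mem_P (S.x_mem_UU (by
    exact ⟨Φ.neg_neg_simple i, fun h => Φ.inSub_simple_iff.1 (Φ.inSub_neg_iff.1 h) rfl⟩) t) h)

theorem Nondeg.hyper (hS : S.Nondeg) {x : G} (hx : x ∈ S.UU (lv Φ i 1))
    (h : (S.n (Φ.simple i) 1)⁻¹ * x * S.n (Φ.simple i) 1 ∈ S.P {j | j ≠ i}) :
    x ∈ S.UU (lv Φ i 1 \ {Φ.simple i}) := by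
  obtain ⟨c, y, hy, rfl⟩ := S.exists_x_mul (lv_closed le_rfl) (lv_pos le_rfl) (Φ.simple i) hx
  obtain ⟨l, hl, e⟩ := (acts_n_inv (S := S) (i := i)).exists_conj_x (Φ.simple i)
  have := mul_mem h (inv_mem (n_conj_mem_P hy))
  rw [show _ * _ = (S.n (Φ.simple i) 1)⁻¹ * S.x (Φ.simple i) c * (S.n (Φ.simple i) 1)⁻¹⁻¹ by group, e,
    Φ.s_simple] at this
  rwa [(mul_eq_zero.1 (hS.x_neg_notMem this)).resolve_left hl, x_zero, one_mul]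

theorem Nondeg.le_U (hS : S.Nondeg) (hΦ : ItOK Φ i) (hH : S.H = ⊥) {K : Subgroup G} (hP : K ≤ S.P {j | j ≠ i})
    (hK : ∀ g ∈ S.P {j | j ≠ i}, ∀ x ∈ K, g * x * g⁻¹ ∈ K)
    (hn : ∀ x ∈ K, (S.n (Φ.simple i) 1)⁻¹ * x * S.n (Φ.simple i) 1 ∈ S.P {j | j ≠ i}) : K ≤ S.U := by
  have hB : S.B = S.U := by rw [B, hH, sup_bot_eq]
  have h1 : ∀ g ∈ K, ∀ b, Φ.rt b i = 1 → ∀ y ∈ S.UU (lv Φ i 1 \ {b}), g * y * g⁻¹ ∈ S.UU (lv Φ i 1 \ {b}) :=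
    fun g hg b hb y hy => by
      obtain ⟨w, hw, h⟩ := hΦ.desc b
      have hb' : w b = Φ.simple i := ((h.resolve_left (Φ.not_neg_of_pos (Φ.pos_of_coeff_pos
        (by rw [rt_W hw, hb]; exact one_pos)))).resolve_right (by omega))
      obtain ⟨m, hm, ha⟩ := S.exists_acts_WJ hw
      have hg' := hK m (NJ_le_P _ hm) g hg
      have hy' : m * y * m⁻¹ ∈ S.UU (lv Φ i 1 \ {Φ.simple i}) := ha.conj_mem_UU (Ψ := lv Φ i 1 \ {b})
        (fun s hs => Set.mem_sdiff_of_mem (le_trans (b := Φ.rt s i) hs.1 (rt_W hw s).ge) fun e =>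
          hs.2 (w.injective (Eq.trans e hb'.symm))) hy
      have := (ha.inv (Φ.WJ_le_W _ hw)).conj_mem_UU (Ψ := lv Φ i 1 \ {Φ.simple i}) (Ψ' := lv Φ i 1 \ {b}) (fun s hs =>
        ⟨hs.1.trans (rt_W (inv_mem hw) s).ge, fun e => hs.2 (by rw [← hb', ← show w⁻¹ s = b from e]; simp)⟩)
        (hS.hyper (P_conj_lv le_rfl (hP hg') (S.UU_mono Set.sdiff_subset hy')) (by
          have := mul_mem (mul_mem (hn _ hg') (n_conj_mem_P hy')) (inv_mem (hn _ hg'))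
          convert this using 1; group))
      convert this using 1; group
  have h2 : ∀ g ∈ K, ∀ w ∈ Φ.WJ {j | j ≠ i}, g ∈ S.cell w → ∀ b, Φ.rt b i = 1 → Φ.ht b ≤ Φ.ht (w b) := by
    rintro _ hg w hw ⟨u, hu, m, -, ha, v, hv, rfl⟩ b hb
    let R : Set ι := {r | r ∈ lv Φ i 1 ∧ ∀ a : {a // Φ.rt a i = 1 ∧ Φ.ht a < Φ.ht b}, r ∈ lv Φ i 1 \ {a.1}}
    have hR : ∀ r ∈ {r | Φ.Pos r}, ∀ s ∈ R, s ≠ Φ.neg r ∧ ∀ k, Φ.IsSum r s k → k ∈ R := fun r hr s hs => by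
      have hs' := lv_pos le_rfl s hs.1
      refine ⟨Φ.ne_neg_of_pos hr hs', fun k hk => ⟨lv_sum le_rfl (hr i) hs.1 hk, fun a =>
        ⟨lv_sum le_rfl (hr i) hs.1 hk, fun e => ?_⟩⟩⟩
      have e1 := hk.coeff_le hr hs' i
      have e2 := hk.ht_le hr hs'
      have e3 := Φ.ht_pos hr
      have e4 := hr i
      have e5 : 1 ≤ Φ.rt s i := hs.1
      have e6 := a.2
      rw [show k = a.1 from e] at e1 e2
      exact (hs.2 ⟨s, by omega, by omega⟩).2 rfl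
    have hb1 : b ∈ R := ⟨hb.ge, fun a => ⟨hb.ge, fun e => a.2.2.ne (congrArg Φ.ht e).symm⟩⟩
    have e1 := S.inv_conj_mem_UU hR (hB.le hv) (S.x_mem_UU hb1 1)
    have e2 := S.inv_conj_mem_UU hR (hB.le hu) (hS.mem_UU_forall (lv_closed le_rfl) (lv_pos le_rfl)
      (fun a => diff_closed a.2.1) (fun _ r hr => lv_pos le_rfl r hr.1)
      (P_conj_lv le_rfl (hP hg) (S.UU_mono (fun _ h => h.1) e1)) fun a =>
        h1 _ hg a.1 a.2.1 _ (S.UU_mono (fun _ h => h.2 a) e1))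
    obtain ⟨l, hl, e⟩ := ha.exists_conj_x b
    rw [show _ * _ = m * S.x b 1 * m⁻¹ by group, e] at e2
    have e3 := hS.mem_of_x_mem_UU (fun r hr s hs => (hR r (lv_pos le_rfl r hr.1) s hs).2)
      (fun r hr => lv_pos le_rfl r hr.1) (by simpa using hl) e2
    exact not_lt.1 fun h => (e3.2 ⟨w b, (rt_W hw b).trans hb, h⟩).2 rfl
  intro g hg
  obtain ⟨w, hw, hc⟩ := exists_mem_cell_of_mem_P (hP hg)
  have hW := Φ.WJ_le_W _ hw
  have h3 : ∀ b, Φ.rt b i = 1 → Φ.ht (w b) = Φ.ht b := fun b hb => le_antisymm (by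
    simpa using h2 _ (inv_mem hg) _ (inv_mem hw) (inv_mem_cell hW hc) (w b) ((rt_W hw b).trans hb)) (h2 g hg w hw hc b hb)
  obtain rfl : w = 1 := Φ.eq_one_of_pos_simple hW fun j => by
    by_cases hj : j = i
    · exact Φ.pos_of_coeff_pos (j := i) (by rw [rt_W hw, hj, Φ.rt_simple, if_pos rfl]; exact one_pos)
    obtain ⟨r, hr, e⟩ := hΦ.h3 j hj
    have e1 := h3 (Φ.s j r) ((rt_W (Φ.s_mem_WJ hj) r).trans hr)
    have e2 : Φ.ht (w (Φ.s j r)) = Φ.ht (w r) + Φ.ht (w (Φ.simple j)) := by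
      simp only [RootSys.ht, ← Finset.sum_add_distrib]
      exact Finset.sum_congr rfl fun k _ => by
        simpa using Φ.rt_comb hW (r := r) (s := Φ.simple j) (k := Φ.s j r) (c := 1) (a := 1) (b := 1) (fun k => by
          rw [Φ.rt_s, Φ.rt_simple, e]; split_ifs <;> simp) k
    rw [e2, h3 r hr, Φ.ht_s, e] at e1
    exact Φ.pos_iff_not_neg.2 fun h => by
      have := Φ.ht_pos (Φ.pos_neg_iff.2 h)
      rw [Φ.ht_neg] at this; omega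
  exact hB.le (hS.cell_one.le hc)

omit [Finite ι] in
theorem itCore_conj {M : Subgroup G} {g : G} (k : ℕ) : ∀ m ∈ M, ∀ x ∈ itCore M g (k + 1),
    m * x * m⁻¹ ∈ itCore M g (k + 1) := fun m hm x hx => mem_core.2 ⟨mul_mem (mul_mem hm (mem_core.1 hx).1) (inv_mem hm),
      fun a ha => by simpa [mul_assoc] using (mem_core.1 hx).2 _ (mul_mem ha hm)⟩

omit [Finite ι] in
theorem itCore_le {M : Subgroup G} {g : G} (k : ℕ) {x : G} (hx : x ∈ itCore M g (k + 1)) :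
    x ∈ itCore M g k ∧ g⁻¹ * x * g ∈ itCore M g k := by
  have := (mem_core.1 hx).2 1 (one_mem _)
  rw [one_mul, inv_one, mul_one] at this
  exact ⟨this.1, mem_cj.1 this.2⟩

theorem Nondeg.itCore_le_lv (hS : S.Nondeg) (hΦ : ItOK Φ i) (hH : S.H = ⊥) :
    ∀ k : ℕ, itCore (S.P {j | j ≠ i}) (S.n (Φ.simple i) 1) (k + 1) ≤ S.UU (lv Φ i (k + 2))
  | 0 => by
    have h1 := hS.shrink (T' := lv Φ i 1) (itCore_conj 0) Φ.closed_pos (fun _ h => h)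
      (hS.le_U hΦ hH (fun _ h => (itCore_le 0 h).1) (itCore_conj 0) fun _ h => (itCore_le 0 h).2) fun r hr => by
        obtain ⟨w, hw, h | h | h⟩ := hΦ.desc r
        exacts [absurd h (Φ.not_neg_of_pos (hr w hw)), by
          change (1 : ℤ) ≤ Φ.rt r i; rw [← rt_W hw, h, Φ.rt_simple, if_pos rfl], one_le_two.trans h.1]
    refine hS.shrink (itCore_conj 0) (closed_diff_simple (lv_closed le_rfl) (lv_pos le_rfl) i)
      (fun r hr => lv_pos le_rfl r hr.1) (fun _ h => hS.hyper (h1 h) (itCore_le 0 h).2) fun r hr => ?_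
    obtain ⟨w, hw, h | h | h⟩ := hΦ.desc r
    exacts [absurd h (Φ.not_neg_of_pos (lv_pos le_rfl _ (hr w hw).1)), absurd h (hr w hw).2, h.1]
  | k + 1 => by
    have hk : (1 : ℤ) ≤ k + 2 := by omega
    refine hS.shrink (T := {r | r ∈ lv Φ i (k + 2) ∧ (Φ.s i)⁻¹ r ∈ lv Φ i (k + 2)}) (itCore_conj _)
      (fun r hr s hs t h => ⟨lv_closed hk r hr.1 s hs.1 t h, lv_closed hk _ hr.2 _ hs.2 _
        (h.apply (inv_mem (Φ.s_mem_W i)))⟩) (fun r hr => lv_pos hk r hr.1) (fun x h => ?_) fun r hr => ?_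
    · have e : S.n (Φ.simple i) 1 * ((S.n (Φ.simple i) 1)⁻¹ * x * S.n (Φ.simple i) 1) * (S.n (Φ.simple i) 1)⁻¹ = x := by
        group
      have := hS.mem_UU_inter (lv_closed hk) (lv_pos hk) (lv_closed hk) (lv_pos hk) (Φ.s_mem_W i)
        (S.acts_n_simple i one_ne_zero) (hS.itCore_le_lv hΦ hH k (itCore_le _ h).2)
        (e.symm ▸ hS.itCore_le_lv hΦ hH k (itCore_le _ h).1)
      rwa [e] at this
    obtain ⟨w, hw, h⟩ := hΦ.desc r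
    obtain ⟨h1, h2⟩ : (k : ℤ) + 2 ≤ Φ.rt (w r) i ∧ (k : ℤ) + 2 ≤ Φ.rt ((Φ.s i)⁻¹ (w r)) i := hr w hw
    rw [Φ.s_inv, Φ.rt_s, if_pos rfl, rt_W hw] at h2
    rcases h with h | h | h
    · have := h i; omega
    · rw [h, Φ.rt_simple, if_pos rfl] at h1; omega
    · change ((k + 1 : ℕ) : ℤ) + 2 ≤ Φ.rt r i; omega

omit [Finite ι] in
theorem lv_le_itCore (hΦ : ItOK Φ i) :
    ∀ k : ℕ, S.UU (lv Φ i (k + 1)) ≤ itCore (S.P {j | j ≠ i}) (S.n (Φ.simple i) 1) k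
  | 0 => (S.UU_le_U (lv_pos le_rfl)).trans (S.U_le_B.trans (B_le_P _))
  | k + 1 => fun x hx => by
    have hk : (1 : ℤ) ≤ (k + 1 : ℕ) + 1 := by omega
    refine mem_core.2 ⟨B_le_P _ (S.U_le_B (S.UU_le_U (lv_pos hk) hx)), fun m hm => ?_⟩
    have h := P_conj_lv hk hm hx
    have h1 : lv Φ i ((k + 1 : ℕ) + 1) ⊆ lv Φ i (k + 1) := fun r hr => by
      have : ((k + 1 : ℕ) : ℤ) + 1 ≤ Φ.rt r i := hr
      change (k : ℤ) + 1 ≤ Φ.rt r i; omega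
    refine mem_inf.2 ⟨lv_le_itCore hΦ k (S.UU_mono h1 h), mem_cj.2 (lv_le_itCore hΦ k ?_)⟩
    rw [← inv_inv (S.n _ 1), inv_inv _⁻¹]
    refine acts_n_inv.conj_mem_UU (fun r (hr : ((k + 1 : ℕ) : ℤ) + 1 ≤ Φ.rt r i) => ?_) h
    change (k : ℤ) + 1 ≤ Φ.rt (Φ.s i r) i
    rw [Φ.rt_s, if_pos rfl]
    rcases hΦ.h2 r with rfl | h
    · rw [Φ.rt_simple, if_pos rfl] at hr; omega
    · omega

theorem Nondeg.isCoatom_P (hS : S.Nondeg) (hg : S.grp = ⊤) : IsCoatom (S.P {j | j ≠ i}) := by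
  refine ⟨fun h => one_ne_zero (hS.x_neg_notMem (h.ge trivial)), fun M hM => ?_⟩
  by_contra hne
  refine hM.not_ge fun x hx => ?_
  have := (BN.eq_parabolic_of_le (P := hS.bnPair) (M := M.subgroupOf S.grp) fun _ h => hM.le (B_le_P _ h)).le
    (show (⟨x, hg.ge trivial⟩ : S.grp) ∈ _ from hx)
  refine BN.parabolic_le (P := hS.bnPair) (M := (S.P {j | j ≠ i}).subgroupOf S.grp) (fun _ h => B_le_P _ h) ?_ this
  rintro y ⟨⟨j, hj⟩, hy⟩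
  by_cases e : j = i
  · refine absurd (eq_top_iff.2 (hg.ge.trans (P_univ.ge.trans (sup_le ((B_le_P _).trans hM.le) ((closure_le _).2 ?_))))) hne
    rintro _ ⟨k, -, rfl⟩
    by_cases e' : k = i
    · rw [e', ← e, ← hj]; exact hy
    · exact hM.le (mem_sup_right (subset_closure ⟨k, e', rfl⟩))
  · exact mem_sup_right (S := S.B) (subset_closure ⟨j, e, hj⟩)

theorem Nondeg.exists_itCore [Finite F] (hS : S.Nondeg) (hg : S.grp = ⊤) (hΦ : ItOK Φ i) (hH : S.H = ⊥)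
    [IsSimpleGroup G] {m : ℕ} (h1 : ∀ r, Φ.rt r i ≤ (m + 1 : ℕ)) {r : ι} (h2 : (m : ℤ) + 1 ≤ Φ.rt r i) (hm : m ≠ 0) :
    ∃ (_ : Finite G) (M₁ M₂ : Subgroup G) (g : G) (A B : ℕ → Subgroup G),
      IsCoatom M₁ ∧ M₂ = M₁.map (MulAut.conj g).toMonoidHom ∧ M₁ ≠ M₂ ∧ M₁.normalCore = ⊥ ∧ A 0 = M₁ ∧ B 0 = M₂ ∧
      (∀ i, A (i + 1) = ((A i ⊓ B i).subgroupOf M₁).normalCore.map M₁.subtype) ∧
      (∀ i, B (i + 1) = ((A i ⊓ B i).subgroupOf M₂).normalCore.map M₂.subtype) ∧ A (m + 1) = ⊥ ∧ A m ≠ ⊥ := by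
  have : Finite S.H := by rw [hH]; infer_instance
  have := hS.finite_grp
  have hc := hS.isCoatom_P (i := i) hg
  have hn : S.n (Φ.simple i) 1 * S.n (Φ.simple i) 1 = 1 := hH.le (S.n_sq_mem_H _)
  obtain ⟨n, e⟩ : ∃ n, n = S.n (Φ.simple i) 1 := ⟨_, rfl⟩
  refine ⟨Finite.of_surjective S.grp.subtype fun x => ⟨⟨x, hg.ge trivial⟩, rfl⟩, S.P {j | j ≠ i}, _, n,
    itCore (S.P {j | j ≠ i}) n, fun k => (itCore (S.P {j | j ≠ i}) n k).map (MulAut.conj n).toMonoidHom, hc, rfl,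
    fun h => ?_, (IsSimpleGroup.eq_bot_or_eq_top_of_normal _ inferInstance).resolve_right fun h =>
      hc.1 (eq_top_iff.2 (h.ge.trans (normalCore_le _))), rfl, rfl, fun _ => rfl, fun k => ?_, ?_, fun h => ?_⟩
  · obtain ⟨l, hl, e'⟩ := (acts_n_inv (S := S) (i := i)).exists_conj_x (Φ.simple i)
    have := mem_cj.1 (h.le (B_le_P _ (S.U_le_B (S.x_mem_UU (Φ.pos_simple i) 1))))
    rw [e, ← inv_inv (S.n _ 1), inv_inv _⁻¹, e', Φ.s_simple] at this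
    exact hl (by simpa using hS.x_neg_notMem this)
  · have key : ∀ (A : Subgroup G) y, n⁻¹ * y * n ∈ A ⊓ A.map (MulAut.conj n).toMonoidHom ↔
        y ∈ A ⊓ A.map (MulAut.conj n).toMonoidHom := fun A y => by
      rw [mem_inf, mem_inf, mem_cj, mem_cj, show n⁻¹ * (n⁻¹ * y * n) * n = (n * n)⁻¹ * y * (n * n) by group,
        e, hn, inv_one, one_mul, mul_one, and_comm]
    ext x
    rw [mem_cj, itCore, mem_core, mem_core, mem_cj]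
    refine and_congr_right' ⟨fun h a ha => (key _ _).1 ?_, fun h a ha => ?_⟩
    · convert h _ (mem_cj.1 ha) using 1; group
    · convert (key _ _).2 (h (n * a * n⁻¹) (mem_cj.2 (by simpa [mul_assoc] using ha))) using 1; group
  · obtain ⟨m, rfl⟩ := Nat.exists_eq_succ_of_ne_zero hm
    refine eq_bot_iff.2 ((e ▸ hS.itCore_le_lv hΦ hH _).trans ?_)
    rw [show lv Φ i _ = ∅ from Set.eq_empty_of_forall_notMem fun r hr => by
      have h3 : ((m + 1 : ℕ) : ℤ) + 2 ≤ Φ.rt r i := hr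
      have := h1 r; omega, UU_empty]
  · exact one_ne_zero (hS.eq_zero_of_x_eq_one (h.le (e ▸ lv_le_itCore hΦ m (S.x_mem_UU h2 1))))

end StSys

open Cfsg.Lie CfsgLib.Weyl

theorem E8_h1 : ∀ r < 240, (∀ k < 8, 0 ≤ rt chevE8 r k) → (∃ j < 8, j ≠ 3 ∧ 0 < chevE8.cartan j r) ∨
    r = chevE8.simple 3 ∨ 2 ≤ rt chevE8 r 3 ∧ 0 < chevE8.cartan 3 r := by decide +kernel

theorem E8_h2 : ∀ r < 240, (r = chevE8.simple 3 ∨ chevE8.cartan 3 r ≤ 1) ∧ rt chevE8 r 3 ≤ 6 := by decide +kernel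

theorem E8_h3 : ∀ j < 8, j ≠ 3 → ∃ r < 240, rt chevE8 r 3 = 1 ∧ chevE8.cartan j r = -1 := by decide +kernel

theorem itOK_E8 : ItOK (rootSys rtOKE8) ⟨3, by decide⟩ := by
  refine ⟨fun r hr => ?_, fun r => ?_, fun j hj => ?_⟩ <;> simp only [rootSys_wt]
  · exact (E8_h1 r r.2 fun k hk => hr ⟨k, hk⟩).imp (fun ⟨j, hj, h⟩ => ⟨⟨j, hj⟩, fun e => h.1 (congrArg Fin.val e), h.2⟩)
      (Or.imp_left Fin.ext)
  · exact (E8_h2 r r.2).1.imp_left Fin.ext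
  · obtain ⟨r, hr, h⟩ := E8_h3 j j.2 fun e => hj (Fin.ext e)
    exact ⟨⟨r, hr⟩, h⟩

end CfsgLib.RGD
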